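import Cfsg.Agent.Lib.KnownC.SylowTwoAb.Basic
import Cfsg.Agent.Lib.PGroup.FusionSp
import Cfsg.Agent.Lib.PGroup.FusionPSL
import Cfsg.Agent.Lib.PGroup.SUElements
import Cfsg.Prelude.Def_Classical

/-!
# Linear, symplectic and unitary groups in characteristic two
-/

set_option autoImplicit false
set_option linter.unusedSectionVars false
set_option linter.style.haveILetI false

namespace CfsgLib.KnownC.SylowTwoAb

open Matrix CfsgLib.PGroup CfsgLib.PGroup.UnitriangularSL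
open scoped commutatorElement

variable {F : Type*} [Field F] [Fintype F] [CharP F 2]

theorem genSq_SL (n : ℕ) : GenSq (UnitriangularSL.U F n) := by
  refine .of_involutions (U_le_of_roots _ fun i j hij c => Subgroup.subset_closure ⟨X_mem_U hij c, ?_⟩)
  refine Subtype.ext ?_
  rw [Matrix.SpecialLinearGroup.coe_mul, X_coe, Matrix.SpecialLinearGroup.coe_one]
  rw [Matrix.add_mul, Matrix.mul_add, Matrix.mul_add, Matrix.one_mul, Matrix.one_mul, Matrix.mul_one,
    Matrix.single_mul_single_of_ne _ _ _ _ hij.ne', add_zero, add_assoc, ← Matrix.single_add,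
    CharTwo.add_self_eq_zero, Matrix.single_zero, add_zero]

theorem ok_psl (n : ℕ) : Ok (Matrix.ProjectiveSpecialLinearGroup (Fin n) F) := by
  haveI : Fact (Nat.Prime 2) := ⟨Nat.prime_two⟩
  obtain ⟨P, hP⟩ := FusionPSL.exists_sylow (F := F) (n := n) (p := 2)
    (π := QuotientGroup.mk' (Subgroup.center (Matrix.SpecialLinearGroup (Fin n) F)))
    (QuotientGroup.mk'_surjective _)
  exact ⟨P, hP ▸ (genSq_SL n).map _⟩

theorem genSq_Sp (m : ℕ) : GenSq (BorelSp.U0 F m) := by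
  refine .of_involutions fun g hg => ?_
  set C := Subgroup.closure {x | x ∈ BorelSp.U0 F m ∧ x * x = 1}
  have hlev : UnitriangularSL.U F m ≤ C.comap (BorelSp.levS (F := F) (m := m)) :=
    U_le_of_roots _ fun i j hij c => Subgroup.subset_closure
      ⟨BorelSp.levS_mem_U0 (X_mem_U hij c), by
        rw [← map_mul, ← Matrix.SpecialLinearGroup.transvection_add hij.ne, CharTwo.add_self_eq_zero,
          Matrix.SpecialLinearGroup.transvection_coeff_zero, map_one]⟩
  obtain ⟨N, S, hS, rfl, hN, -⟩ := BorelSp.exists_levS_sy hg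
  refine mul_mem (hlev hN) (Subgroup.subset_closure ⟨BorelSp.sy_mem_U0 S hS, ?_⟩)
  rw [BorelSp.sy_mul]
  have h0 : S + S = 0 := Matrix.ext fun a b => CharTwo.add_self_eq_zero (S a b)
  rw [BorelSp.sy_congr h0 _ (Matrix.transpose_zero)]
  exact Subtype.ext Matrix.fromBlocks_one

theorem ok_psp (m : ℕ) : Ok (Cfsg.PSp m F) := by
  haveI : Fact (Nat.Prime 2) := ⟨Nat.prime_two⟩
  obtain ⟨P, hP⟩ := FusionSp.exists_sylow (F := F) (m := m) (p := 2)
    (π := (QuotientGroup.mk' (Subgroup.center _) :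
      ↥(Matrix.symplecticGroup (Fin m) F) →* Cfsg.PSp m F)) (QuotientGroup.mk'_surjective _)
  exact ⟨P, hP ▸ (genSq_Sp m).map _⟩

section Unitary

open CfsgLib.PGroup.SUModel CfsgLib.PGroup.SURoots CfsgLib.Classical CfsgLib.PGroup.SplitMonomial

variable {σ : F →+* F} (Dt : Datum σ)

theorem exists_trace_one (h : IsConjugation σ) : ∃ c : F, c + σ c = 1 := by
  obtain ⟨c, hc⟩ : ∃ c : F, σ c ≠ c := by
    by_contra hh
    push Not at hh
    exact h.ne_id (RingHom.ext hh)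
  have hne : c + σ c ≠ 0 := fun e => hc (CharTwo.add_eq_zero.1 e).symm
  refine ⟨c / (c + σ c), ?_⟩
  rw [map_div₀, map_add, h.invol, add_comm (σ c) c, ← add_div, div_self hne]

theorem sq_short (n : ℕ) (k : Short n) (c : F) : e4 k (x4 Dt c) * e4 k (x4 Dt c) = 1 := by
  rw [x4, ← map_mul, ← map_mul, ← Matrix.SpecialLinearGroup.transvection_add, CharTwo.add_self_eq_zero,
    Matrix.SpecialLinearGroup.transvection_coeff_zero, map_one, map_one]

theorem x2_sq (b : F) (hb : b + σ b = 0) : x2 b hb * x2 b hb = 1 := by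
  refine ext' ?_
  rw [coe_mul]
  show !![1, b; 0, 1] * !![1, b; 0, 1] = (1 : Matrix (Fin 2) (Fin 2) F)
  ext i j
  fin_cases i <;> fin_cases j <;> simp [Matrix.mul_apply, Fin.sum_univ_two, CharTwo.add_self_eq_zero]

theorem x3_sq_of_zero (h : IsConjugation σ) (b : F) (hb : b + σ b + 0 * σ 0 = 0) :
    x3 h 0 b hb * x3 h 0 b hb = 1 := by
  refine ext' ?_
  rw [coe_mul]
  show !![1, 0, b; 0, 1, -σ 0; 0, 0, 1] * !![1, 0, b; 0, 1, -σ 0; 0, 0, 1] =
    (1 : Matrix (Fin 3) (Fin 3) F)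
  ext i j
  fin_cases i <;> fin_cases j <;> simp [Matrix.mul_apply, Fin.sum_univ_three, CharTwo.add_self_eq_zero]

theorem x3_swap (h : IsConjugation σ) {a b c b' : F} (hc : c + σ c = 1)
    (hab : b + σ b + a * σ a = 0) (hab' : b' + σ b' + (c * a) * σ (c * a) = 0) :
    x3 h a b hab * x3 h (c * a) b' hab' =
      x3 h a b hab * x3 h a b hab * (x3 h (c * a) b' hab' * x3 h a b hab) := by
  refine ext' ?_
  simp only [coe_mul]
  show !![1, a, b; 0, 1, -σ a; 0, 0, 1] * !![1, c * a, b'; 0, 1, -σ (c * a); 0, 0, 1] =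
    !![1, a, b; 0, 1, -σ a; 0, 0, 1] * !![1, a, b; 0, 1, -σ a; 0, 0, 1] *
      (!![1, c * a, b'; 0, 1, -σ (c * a); 0, 0, 1] * !![1, a, b; 0, 1, -σ a; 0, 0, 1])
  have h2 : (2 : F) = 0 := CharTwo.two_eq_zero
  ext i j
  fin_cases i <;> fin_cases j <;> simp [Matrix.mul_apply, Fin.sum_univ_three] <;>
    first
      | linear_combination (-a) * h2
      | linear_combination (σ a) * h2
      | linear_combination (-(a * σ a)) * hc + (-b + a * σ a + c * a * σ a + a * σ a * σ c) * h2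

include Dt in
theorem genSq_SU (n : ℕ) : GenSq (SUModel.U σ n) := by
  refine SUElements.U_le_of_roots Dt _ fun i x hx t hy => ?_
  refine Subgroup.subset_closure ⟨hy, ?_⟩
  have sq : ∀ {z : SUJ σ n}, z * z = 1 →
      ((ν t)⁻¹ * z * ν t) * ((ν t)⁻¹ * z * ν t) = 1 := by
    intro z hz
    rw [show (ν t)⁻¹ * z * ν t * ((ν t)⁻¹ * z * ν t) = (ν t)⁻¹ * (z * z) * ν t by group, hz]
    group
  rcases i with k | k | k
  · obtain ⟨c, rfl⟩ := hx
    rw [sq (sq_short Dt n k c)]
    exact one_mem _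
  · obtain ⟨b, hb, rfl⟩ := hx
    rw [sq (by rw [← map_mul, x2_sq, map_one])]
    exact one_mem _
  obtain ⟨a, b, hab, rfl⟩ := hx
  by_cases ha : a = 0
  · subst ha
    rw [sq (by rw [← map_mul, x3_sq_of_zero, map_one])]
    exact one_mem _
  obtain ⟨c, hc⟩ := exists_trace_one Dt.conj
  set N : F := (c * a) * σ (c * a) with hN
  have hσN : σ N = N := by rw [hN, map_mul, Dt.conj.invol, mul_comm]
  have hab' : c * N + σ (c * N) + (c * a) * σ (c * a) = 0 := by
    rw [map_mul, hσN, ← add_mul, hc, one_mul, ← hN]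
    exact CharTwo.add_self_eq_zero N
  set x := e3 k (x3 Dt.conj a b hab) with hxdef
  set x' := e3 k (x3 Dt.conj (c * a) (c * N) hab') with hx'def
  set S := ν t
  -- the partner lies in the same places
  have hsupp : ∀ p q, p ≠ q → x'.1.1 p q ≠ 0 → x.1.1 p q ≠ 0 := by
    intro p q hpq h
    obtain ⟨i, j, rfl, rfl, hij⟩ := (embU_ne_zero _ _ _ _ h).resolve_left hpq
    rw [hxdef, e3, embU_apply_image]
    change (!![1, c * a, c * N; 0, 1, -σ (c * a); 0, 0, 1] : Matrix (Fin 3) (Fin 3) F) i j ≠ 0 at hij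
    show (!![1, a, b; 0, 1, -σ a; 0, 0, 1] : Matrix (Fin 3) (Fin 3) F) i j ≠ 0
    have hb : b ≠ 0 := by
      rintro rfl
      simp [ha] at hab
    have hσa : σ a ≠ 0 := (map_ne_zero σ).2 ha
    fin_cases i <;> fin_cases j <;> simp [ha, hb, hσa] at hij ⊢
  have hy' : S⁻¹ * x' * S ∈ SUModel.U σ n := by
    have hR' : x' ∈ R Dt (.inr (.inr k) : ι n) := ⟨_, _, hab', rfl⟩
    obtain ⟨hd', hs'⟩ := SUElements.conj_inv_support (monom_ν t) (root_diag Dt hR')
    refine mem_U_iff.2 ⟨hd', fun p q hpq => ?_⟩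
    by_contra h
    have h1 := hsupp _ _ (t.1.1.1.injective.ne hpq.ne') (hs' p q h)
    obtain ⟨hdy, hy0⟩ := mem_U_iff.1 hy
    have hS' : Monom (S⁻¹).1.1 t.1.1.1⁻¹ :=
      (monom_ν t).of_inv (det_ne S) (by rw [← coe_mul, mul_inv_cancel]; rfl)
    obtain ⟨-, hs⟩ := SUElements.conj_inv_support hS' hdy
    rw [inv_inv, show S * (S⁻¹ * x * S) * S⁻¹ = x by group] at hs
    have h2 := hs _ _ h1
    simp only [Equiv.Perm.inv_def, Equiv.symm_apply_apply] at h2
    exact h2 (hy0 p q hpq)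
  have hcomm : x * x = ⁅x, x'⁆ := by
    have h := congrArg (e3 k) (x3_swap Dt.conj hc hab hab')
    simp only [map_mul] at h
    rw [← hxdef, ← hx'def] at h
    rw [commutatorElement_def, mul_assoc (x * x'), ← _root_.mul_inv_rev, eq_mul_inv_iff_mul_eq]
    exact h.symm
  have hmem := Subgroup.commutator_mem_commutator hy hy'
  have e : ⁅S⁻¹ * x * S, S⁻¹ * x' * S⁆ = (S⁻¹ * x * S) * (S⁻¹ * x * S) := by
    rw [show S⁻¹ * x * S * (S⁻¹ * x * S) = S⁻¹ * (x * x) * S by group, hcomm, commutatorElement_def,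
      commutatorElement_def]
    group
  rwa [e] at hmem

theorem ok_psu {q : ℕ} (hF : Fintype.card F = q ^ 2) (n : ℕ) : Ok (Cfsg.PSU n F q) := by
  haveI : Fact (Nat.Prime 2) := ⟨Nat.prime_two⟩
  obtain ⟨σ, hσ, ⟨e⟩⟩ := SUModel.exists_model (n := n) hF
  obtain ⟨Dt⟩ := exists_datum hσ
  obtain ⟨P, hP⟩ := SteinbergSU.exists_sylow Dt (p := 2)
    (π := (QuotientGroup.mk' (Subgroup.center (Cfsg.SU n F q))).comp e.toMonoidHom)
    ((QuotientGroup.mk'_surjective _).comp e.surjective)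
  exact ⟨P, hP ▸ (genSq_SU Dt n).map _⟩

end Unitary

end CfsgLib.KnownC.SylowTwoAb
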