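import Cfsg.Agent.Lib.KnownC.SylowTwoAb.Twist
import Cfsg.Agent.Lib.PGroup.ChevBigCell
import Cfsg.Agent.Lib.Chevalley.Tables
import Cfsg.Agent.Lib.Chevalley.Twist.InstE6
import Cfsg.Agent.Lib.Chevalley.Twist.InstD4
import Cfsg.Agent.Lib.Chevalley.Twist.InstF4
import Cfsg.Agent.Lib.KnownB.SuzukiFacts
import Cfsg.Agent.S1066
import Cfsg.Agent.S1067
import Cfsg.Agent.S1068

/-!
# Exceptional groups in characteristic two
-/

set_option autoImplicit false
set_option linter.unusedSectionVars false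
set_option linter.style.haveILetI false

namespace CfsgLib.KnownC.SylowTwoAb

open CfsgLib.Chevalley CfsgLib.Chevalley.Tbl
open scoped commutatorElement

/-- Chevalley groups. -/
theorem ok_chev {F : Type*} [Field F] [Fintype F] [CharP F 2] {D : Cfsg.Lie.ChevalleyDatum}
    (hD : D ∈ [Cfsg.Lie.chevG2, Cfsg.Lie.chevB2, Cfsg.Lie.chevD4, Cfsg.Lie.chevF4, Cfsg.Lie.chevE6,
      Cfsg.Lie.chevE7, Cfsg.Lie.chevE8]) : Ok ↥(D.group F) := by
  haveI : Fact (Nat.Prime 2) := ⟨Nat.prime_two⟩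
  obtain ⟨T, hT, hC, rfl⟩ := exists_tbl hD
  let U := CfsgLib.PGroup.ChevBigCell.gen T F fun k => T.half ≤ k
  have hU : Nat.card U = 2 ^ (Nat.card ↥(T.datum.group F)).factorization 2 := by
    rw [CfsgLib.PGroup.ChevBigCell.factorization_card hT hC 2,
      show U = (T.rootGen F fun k => T.half ≤ k).subgroupOf (T.datum.group F) from rfl,
      ← posUnipotent_rootGen hT]
    exact CfsgLib.KnownB.Steinberg.card_pos hT hC
  refine ⟨Sylow.ofCard U hU, .of_involutions fun g hg => ?_⟩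
  rw [Sylow.coe_ofCard] at hg ⊢
  have hle : T.rootGen F (fun k => T.half ≤ k) ≤
      (Subgroup.closure {x | x ∈ U ∧ x * x = 1}).map (T.datum.group F).subtype :=
    rootGen_le fun r hr hP t => ⟨⟨T.xU F r t, xU_mem_group hT hr t⟩, Subgroup.subset_closure
      ⟨CfsgLib.PGroup.ChevBigCell.mem_gen.2 (xU_mem_rootGen (P := fun k => T.half ≤ k) hr hP t),
        Subtype.ext (by
          show T.xU F r t * T.xU F r t = 1
          rw [xU_add hT hr, CharTwo.add_self_eq_zero, xU_zero hT hr])⟩, rfl⟩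
  obtain ⟨y, hy, e⟩ := hle (CfsgLib.PGroup.ChevBigCell.mem_gen.1 hg)
  rwa [← (Subtype.ext e : y = g)]

/-- Products of commuting involutions. -/
theorem prod_sq_of_commute {M : Type*} [Monoid M] : ∀ l : List M,
    (∀ x ∈ l, x * x = 1) → (∀ x ∈ l, ∀ y ∈ l, Commute x y) → l.prod * l.prod = 1
  | [], _, _ => by simp
  | x :: l, h1, h2 => by
    have hc : Commute x l.prod := Commute.list_prod_right _ _ fun y hy =>
      h2 x List.mem_cons_self y (List.mem_cons_of_mem _ hy)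
    rw [List.prod_cons, mul_assoc, ← mul_assoc l.prod x, ← hc.eq, ← mul_assoc, ← mul_assoc,
      h1 x List.mem_cons_self, one_mul]
    exact prod_sq_of_commute l (fun y hy => h1 y (List.mem_cons_of_mem _ hy))
      fun y hy z hz => h2 y (List.mem_cons_of_mem _ hy) z (List.mem_cons_of_mem _ hz)

/-- The twisted groups with abelian orbit subgroups. -/
theorem ok_abSetup {T : Tbl} {F : Type*} [Field F] [CharP F 2] [Finite F] (A : AbSetup T F)
    (hG : A.G = A.S.fix) {f d M : ℕ}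
    (hq : ∀ j < A.o, Nat.card {t : F // A.Fit j t} = (2 ^ f) ^ (A.Ss.getD j []).length)
    (hM : Odd M) (hcard : d * Nat.card ↥A.G = (2 ^ f) ^ T.half * M) : Ok ↥A.S.fix := by
  rw [hG] at hcard
  refine Ok.of_card (T.datum.posUnipotent F ⊓ A.S.fix) inf_le_right (A.card_Upos hq).1 hM hcard
    (genSq_pos A.gen fun j => .of_involutions fun x hx => Subgroup.subset_closure ⟨hx, ?_⟩)
  obtain ⟨t, -, rfl⟩ := A.exists_word j hx
  have hab := (A.facts j.2).1
  rw [Tbl.gprod]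
  refine prod_sq_of_commute _ (fun x hx => ?_) fun x hx y hy => ?_
  · obtain ⟨p, hp, rfl⟩ := List.mem_map.1 hx
    have hlt := A.D.cycWord_lt hab t p hp
    rw [xU_add A.D.ok.valid hlt, CharTwo.add_self_eq_zero, xU_zero A.D.ok.valid hlt]
  · obtain ⟨p, hp, rfl⟩ := List.mem_map.1 hx
    obtain ⟨p', hp', rfl⟩ := List.mem_map.1 hy
    obtain ⟨e, he, rfl⟩ := List.mem_map.1 hp
    obtain ⟨e', he', rfl⟩ := List.mem_map.1 hp'
    exact A.D.ab_commute hab (List.mem_range.1 he) (List.mem_range.1 he') _ _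

theorem even_of_pow {q e : ℕ} (he : e ≠ 0) {K : Type*} [Field K] [Fintype K] [CharP K 2]
    (hK : Fintype.card K = q ^ e) : ∃ f, q = 2 ^ f ∧ Even q := by
  obtain ⟨n, -, hn⟩ := FiniteField.card K 2
  obtain ⟨g, -, hg⟩ := (Nat.dvd_prime_pow Nat.prime_two).1 (hn ▸ hK ▸ dvd_pow_self q he)
  refine ⟨g, hg, hg ▸ Nat.even_pow.2 ⟨even_two, ?_⟩⟩
  rintro rfl
  rw [hg, pow_zero, one_pow] at hK
  have h1 := Fintype.one_lt_card (α := K)
  omega

theorem odd_sub {q i : ℕ} (hq : Even q) (hq0 : 1 ≤ q) (hi : i ≠ 0) : Odd (q ^ i - 1) :=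
  Nat.Even.sub_odd (Nat.one_le_pow _ _ hq0) (Nat.even_pow.2 ⟨hq, hi⟩) odd_one

theorem odd_add {q i : ℕ} (hq : Even q) (hi : i ≠ 0) : Odd (q ^ i + 1) :=
  (Nat.even_pow.2 ⟨hq, hi⟩).add_one

section Twisted

variable {K : Type*} [Field K] [Fintype K] [CharP K 2] {q : ℕ} (hq : IsPrimePow q)
include hq

theorem ok_twistedE6 (hK : Fintype.card K = q ^ 2) : Ok ↥(Cfsg.Lie.twistedE6 K q) := by
  have hK' : Nat.card K = q ^ 2 := Nat.card_eq_fintype_card.trans hK
  obtain ⟨f, hf, he⟩ := even_of_pow two_ne_zero hK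
  have h1 := Twist.E6.one_le hq
  refine Twist.E6.transfer hq hK' (fun _ G => Ok ↥G) ?_
  refine ok_abSetup (Twist.E6.setup hq hK') (Twist.E6.G_eq hq hK') (f := f)
    (d := Nat.gcd 3 (q + 1))
    (M := (q ^ 2 - 1) * (q ^ 5 + 1) * (q ^ 6 - 1) * (q ^ 8 - 1) * (q ^ 9 + 1) * (q ^ 12 - 1))
    (fun j hj => hf ▸ Twist.E6.hcard hq hK' j hj) ?_ ?_
  · exact (((((odd_sub he h1 (by omega)).mul (odd_add he (by omega))).mul (odd_sub he h1 (by omega))).mul
      (odd_sub he h1 (by omega))).mul (odd_add he (by omega))).mul (odd_sub he h1 (by omega))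
  · rw [Twist.E6.card_eq hq hK', show Data.E6.tbl.half = 36 from rfl, ← hf]
    ring

theorem ok_twistedD4 (hK : Fintype.card K = q ^ 3) : Ok ↥(Cfsg.Lie.twistedD4 K q) := by
  have hK' : Nat.card K = q ^ 3 := Nat.card_eq_fintype_card.trans hK
  obtain ⟨f, hf, he⟩ := even_of_pow three_ne_zero hK
  have h1 : 1 ≤ q := hf ▸ Nat.one_le_two_pow
  refine Twist.D4.transfer hq hK' (fun _ G => Ok ↥G) ?_
  refine ok_abSetup (Twist.D4.setup hq hK') (Twist.D4.G_eq hq hK') (f := f) (d := 1)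
    (M := (q ^ 2 - 1) * (q ^ 6 - 1) * (q ^ 8 + q ^ 4 + 1))
    (fun j hj => hf ▸ Twist.D4.hcard hq hK' j hj) ?_ ?_
  · exact ((odd_sub he h1 (by omega)).mul (odd_sub he h1 (by omega))).mul
      ((Nat.even_pow.2 ⟨he, by omega⟩).add (Nat.even_pow.2 ⟨he, by omega⟩)).add_one
  · rw [one_mul, Twist.D4.card_eq hq hK', show Data.D4.tbl.half = 12 from rfl, ← hf]
    ring

end Twisted

section BigRee

open CfsgLib.Chevalley.Twist.F4

variable {K : Type*} [Field K] [Fintype K] {m : ℕ}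

theorem exists_quad_coeff (hm : 1 ≤ m) (hK : Nat.card K = 2 ^ (2 * m + 1)) :
    ∃ a b : K, a ^ 2 ^ m * b + b ^ 2 ^ m * a = 1 := by
  obtain ⟨c, -, hc1, -⟩ := exists_gen_unit hK hm
  have hs : (c : K) + (c : K) ^ 2 ^ m ≠ 0 := by
    intro h
    have h2 : (c : K) ^ 2 ^ m = c := by linear_combination h - (c : K) * two_eq_zero hK
    have h2' : c ^ 2 ^ m = c := Units.ext (by simpa using h2)
    have e := units_theta hK c
    rw [h2', mul_comm 2, pow_mul, h2', pow_two] at e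
    exact hc1 (congrArg Units.val (mul_eq_left.1 e))
  have hcop : (Nat.card Kˣ).Coprime (2 ^ m + 1) := by
    rw [Nat.card_units, hK]
    refine Nat.coprime_of_dvd' fun r _ h1 h2 => ?_
    have h3 : r ∣ 2 ^ (2 * m) - 1 := h2.trans ⟨2 ^ m - 1, by
      rw [two_mul, pow_add, Nat.add_mul, one_mul, Nat.mul_sub, mul_one]
      have := Nat.one_le_two_pow (n := m)
      have := Nat.le_mul_of_pos_right (2 ^ m) (by omega : 0 < 2 ^ m)
      omega⟩
    have h4 := Nat.pow_sub_one_gcd_pow_sub_one 2 (2 * m + 1) (2 * m)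
    rw [show Nat.gcd (2 * m + 1) (2 * m) = 1 by simp, pow_one] at h4
    have h5 := Nat.dvd_gcd h1 h3
    rwa [h4] at h5
  obtain ⟨l, hl⟩ := (powCoprime hcop).surjective (Units.mk0 _ hs)⁻¹
  have hl' : (l : K) ^ (2 ^ m + 1) = ((c : K) + (c : K) ^ 2 ^ m)⁻¹ := by
    have := congrArg Units.val hl
    simpa [powCoprime] using this
  refine ⟨(l : K), (l : K) * c, ?_⟩
  rw [mul_pow, ← inv_mul_cancel₀ hs, ← hl', pow_succ]
  ring

theorem ok_twistedF4 (hm : 1 ≤ m) (hK : Fintype.card K = 2 ^ (2 * m + 1)) :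
    Ok ↥(Cfsg.Lie.twistedF4 K (2 ^ m)) := by
  have hK' : Nat.card K = 2 ^ (2 * m + 1) := Nat.card_eq_fintype_card.trans hK
  refine Twist.F4.transfer hK' (fun _ G => Ok ↥G) ?_
  set q := 2 ^ (2 * m + 1) with hqdef
  have he : Even q := Nat.even_pow.2 ⟨even_two, by omega⟩
  have h1 : 1 ≤ q := Nat.one_le_two_pow
  refine Ok.of_card (Data.F4.tbl.datum.posUnipotent K ⊓ (S hK').fix) inf_le_right (f := 2 * m + 1)
    (A := 12) (d := 1) (M := (q - 1) * (q ^ 3 + 1) * (q ^ 4 - 1) * (q ^ 6 + 1)) (card_Upos hK') ?_ ?_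
    (genSq_pos (Twist.F4.gen hK') ?_)
  · exact (((Nat.Even.sub_odd h1 he odd_one).mul (odd_add he (by omega))).mul
      (odd_sub he h1 (by omega))).mul (odd_add he (by omega))
  · rw [one_mul, ← grp_eq_fix hK', card_eq hK', ← hqdef]
    ring
  obtain ⟨a, b, hab⟩ := exists_quad_coeff hm hK'
  rintro (j : Fin 2)
  intro x hx
  refine Subgroup.subset_closure ⟨hx, ?_⟩
  match j with
  | 0 =>
    obtain ⟨t, rfl⟩ := exists_pair hK' hx
    have hpr : (33, 24) ∈ [(33, 24), (14, 23)] := by simp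
    rw [show pair m 33 24 t * pair m 33 24 t = 1 by
      nth_rewrite 1 [← pair_inv hK' hpr t]
      exact inv_mul_cancel _]
    exact one_mem _
  | 1 =>
    obtain ⟨t, u, rfl⟩ := exists_quad hK' hx
    have hA : quad m 27 25 28 30 (a * t) 0 ∈ (S hK').Uw ((S hK').wJ (O hK') (1 : Fin 2)) :=
      quad_mem_Uw hK' _ _
    have hB : quad m 27 25 28 30 (b * t) 0 ∈ (S hK').Uw ((S hK').wJ (O hK') (1 : Fin 2)) :=
      quad_mem_Uw hK' _ _
    have hmem := Subgroup.commutator_mem_commutator hA hB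
    have e : ⁅quad (K := K) m 27 25 28 30 (a * t) 0, quad m 27 25 28 30 (b * t) 0⁆ =
        quad m 27 25 28 30 t u * quad m 27 25 28 30 t u := by
      rw [commutatorElement_def, mul_assoc, ← _root_.mul_inv_rev, mul_inv_eq_iff_eq_mul,
        quad_mul hK' quadPos, quad_mul hK' quadPos, quad_mul hK' quadPos, quad_mul hK' quadPos]
      have h2 := two_eq_zero hK'
      congr 1
      · linear_combination (-t) * h2
      · rw [show t + t = 0 by linear_combination t * h2, zero_pow (by positivity), mul_pow, mul_pow]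
        linear_combination (t ^ 2 ^ m * t) * hab + (-u - b ^ 2 ^ m * a * t ^ 2 ^ m * t) * h2
    rwa [e] at hmem

end BigRee

theorem ok_suzuki {F : Type*} [Field F] [Fintype F] {m : ℕ} (hm : 1 ≤ m)
    (hF : Fintype.card F = 2 ^ (2 * m + 1)) : Ok ↥(Cfsg.Lie.Sz F (2 ^ (m + 1))) := by
  open CfsgLib.KnownB.Suzuki CfsgLib.KnownB.SzElem in
  exact (by
    have he := twist_of_card hF
    have hc : ∃ c : F, c ^ (2 ^ (m + 1)) ≠ c := exists_pow_ne he hm hF
    refine ⟨sylow2 he, ?_⟩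
    rw [coe_sylow2]
    intro g hg
    refine Subgroup.subset_closure ⟨hg, ?_⟩
    obtain ⟨⟨a, b⟩, rfl⟩ := hg
    rw [← commutator_top_map]
    refine ⟨⟨_, mul_mem (P_mem_uGroup he a b) (P_mem_uGroup he a b)⟩, ?_, rfl⟩
    refine (sylow_commutator he hc _).2 ⟨a ^ 2 ^ (m + 1) * a, ?_⟩
    show P he a b * P he a b = _
    rw [P_mul]
    have h2 := he.two
    congr 1
    · linear_combination a * h2
    · linear_combination b * h2)

end CfsgLib.KnownC.SylowTwoAb
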