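import Cfsg.Agent.Lib.KnownC.SylowTwoAb.Basic
import Cfsg.Agent.Lib.Chevalley.Twist.Cells

/-!
# Fixed parts of the unipotent group of a twisted Chevalley group
-/

set_option autoImplicit false

namespace CfsgLib.KnownC.SylowTwoAb

open CfsgLib.Chevalley CfsgLib.Chevalley.Tbl CfsgLib.Chevalley.Tbl.Twist

variable {T : Tbl} {F : Type*} [Field F] {S : Twist T F} {O : Orbits T S.valid S.ρ}

/-- One step along a reduced expression. -/
theorem genSq_step (G : S.Gen O) {w : Equiv.Perm (Fin T.n)} (hw : w ∈ S.W1) (j : Fin O.o)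
    (hadd : T.invN (w * S.wJ O j) = T.invN w + T.invN (S.wJ O j))
    (hU : GenSq (S.Uw w)) (hJ : GenSq (S.Uw (S.wJ O j))) : GenSq (S.Uw (w * S.wJ O j)) := by
  have hT := S.valid
  have hC := S.comm
  obtain ⟨n, hnΓ, hnN, hm⟩ := (G.main w hw).1
  obtain ⟨nJ, hJΓ, hJN, hmJ⟩ := G.exists_nJ j
  have hJf := G.le hJΓ
  have hm' : T.Mono (n * nJ) (w * S.wJ O j) := hm.mul hmJ
  -- the two embeddings
  have hA : ∀ a ∈ S.Uw w, nJ⁻¹ * a * nJ ∈ S.fix ∧ nJ⁻¹ * a * nJ ∈ T.rootGen F (T.posSet (S.wJ O j)) ∧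
      nJ⁻¹ * a * nJ ∈ T.rootGen F (T.negSet (w * S.wJ O j)) := by
    rintro a ⟨haf, haU⟩
    refine ⟨mul_mem (mul_mem (inv_mem hJf) haf) hJf, ?_, ?_⟩
    all_goals
      rw [show nJ⁻¹ * a * nJ = nJ⁻¹ * a * nJ⁻¹⁻¹ by rw [inv_inv]]
      refine conj_mem_rootGen hT hmJ.inv (fun r ⟨_, hp, hneg⟩ => ?_) haU
      rw [S.wJ_inv]
    all_goals
      have hpos : T.half ≤ (S.wJ O j r).val := by
        by_contra hlt
        exact absurd (S.pos_of_add O hw hadd hp (not_le.mp hlt)) (not_le.mpr hneg)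
      refine ⟨(S.wJ O j r).2, hpos, ?_⟩
    · rw [S.wJ_wJ]; exact hp
    · rw [Equiv.Perm.mul_apply, S.wJ_wJ]; exact hneg
  have hB : T.rootGen F (T.negSet (S.wJ O j)) ≤ T.rootGen F (T.negSet (w * S.wJ O j)) := by
    refine rootGen_mono fun r hr ⟨_, hp, hneg⟩ => ⟨hr, hp, ?_⟩
    rw [Equiv.Perm.mul_apply]
    have h1 : T.half ≤ (T.negF (S.wJ O j ⟨r, hr⟩)).val := le_negF hneg
    have h2 : (S.wJ O j (T.negF (S.wJ O j ⟨r, hr⟩))).val < T.half := by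
      rw [WP_negF hT (S.wJ_mem O j).1, S.wJ_wJ]
      exact negF_lt hp
    have h3 := S.pos_of_add O hw hadd h1 h2
    rw [WP_negF hT hw.1] at h3
    by_contra hge
    exact absurd h3 (not_le.mpr (negF_lt (not_lt.mp hge)))
  have hsurj : ∀ x ∈ S.Uw (w * S.wJ O j), ∃ a ∈ S.Uw w, ∃ b ∈ S.Uw (S.wJ O j),
      x = nJ⁻¹ * a * nJ * b := by
    intro x hx
    obtain ⟨hxf, hxU⟩ := Subgroup.mem_inf.mp hx
    obtain ⟨hxG, hxs⟩ := S.mem_fix_iff.mp hxf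
    obtain ⟨hxpos, -⟩ := (mem_negSet_iff hT hC hm').mp hxU
    obtain ⟨p, hp, q, hq, rfl⟩ := exists_pos_factor hT hC (S.wJ O j) hxpos
    have hpG := S.rootGen_le_group _ hp
    have hqG := S.rootGen_le_group _ hq
    have hwJ := (S.mem_W1_iff.mp (S.wJ_mem O j)).2
    rw [S.sg_mul hpG hqG] at hxs
    have hq' := S.sg_negSet hq
    rw [hwJ] at hq'
    obtain ⟨h1, h2⟩ := factor_unique hT hC hmJ (S.sg_posSet hwJ hp) hp hq' hq hxs
    have hpf : p ∈ S.fix := ⟨hpG, h1⟩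
    have hqf : q ∈ S.fix := ⟨hqG, h2⟩
    refine ⟨nJ * p * nJ⁻¹, Subgroup.mem_inf.mpr ⟨mul_mem (mul_mem hJf hpf) (inv_mem hJf), ?_⟩, q,
      Subgroup.mem_inf.mpr ⟨hqf, hq⟩, by group⟩
    rw [mem_negSet_iff hT hC hm]
    refine ⟨conj_mem_rootGen hT hmJ (fun r ⟨_, _, h⟩ => h) hp, ?_⟩
    have hpU' : p ∈ T.rootGen F (T.negSet (w * S.wJ O j)) := by
      have := mul_mem hxU (inv_mem (hB hq))
      rwa [mul_inv_cancel_right] at this
    have := ((mem_negSet_iff hT hC hm').mp hpU').2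
    simpa [mul_assoc] using this
  refine GenSq.of_le_sup (W := (S.Uw w).map (MulAut.conj nJ⁻¹).toMonoidHom) ?_
    (le_inf inf_le_left (inf_le_right.trans hB)) ?_ (hU.map _) hJ
  · rintro _ ⟨a, ha, rfl⟩
    show nJ⁻¹ * a * nJ⁻¹⁻¹ ∈ _
    rw [inv_inv]
    exact Subgroup.mem_inf.mpr ⟨(hA a ha).1, (hA a ha).2.2⟩
  · intro x hx
    obtain ⟨a, ha, b, hb, rfl⟩ := hsurj x hx
    refine Subgroup.mul_mem_sup ⟨a, ha, ?_⟩ hb
    show nJ⁻¹ * a * nJ⁻¹⁻¹ = _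
    rw [inv_inv]

/-- The fixed part of the whole positive unipotent group. -/
theorem genSq_pos (G : S.Gen O) (hJ : ∀ j, GenSq (S.Uw (S.wJ O j))) :
    GenSq (T.datum.posUnipotent F ⊓ S.fix) := by
  obtain ⟨w, hw, hneg⟩ := G.exists_longest
  have e : T.datum.posUnipotent F ⊓ S.fix = S.Uw w := by
    rw [posUnipotent_rootGen S.valid, inf_comm, Twist.Uw]
    congr 1
    exact le_antisymm (rootGen_mono fun r hr hp => ⟨hr, hp, hneg _ hp⟩)
      (rootGen_mono fun r _ ⟨_, h, _⟩ => h)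
  rw [e]
  refine S.W1_induction O (P := fun v => GenSq (S.Uw v)) ?_
    (fun v hv j hadd ih => genSq_step G hv j hadd ih (hJ j)) w hw
  rw [Twist.Uw_one]
  exact bot_le

end CfsgLib.KnownC.SylowTwoAb
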